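import Mathlib.Data.List.Basic
import Mathlib.Data.Int.Notation

/-! An element of order 7 of shape `1³7³` in the monomial group and the data of the certificates. -/

set_option autoImplicit false
set_option maxRecDepth 10000

namespace CfsgLib.Co0Seven

/-- the table of the element -/
def sTab : List ℕ := [3, 0, 18, 2, 23, 5, 14, 19, 15, 4, 10, 16, 22, 21, 8, 9, 17, 7, 13, 12, 20, 1, 11, 6]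

/-- the table of the inverse -/
def sInvTab : List ℕ := [1, 21, 3, 0, 9, 5, 23, 17, 14, 15, 10, 22, 19, 18, 6, 8, 11, 16, 2, 7, 20, 13, 12, 4]

/-- the tables of the powers -/
def powTabs : List (List ℕ) := [
  [0, 1, 2, 3, 4, 5, 6, 7, 8, 9, 10, 11, 12, 13, 14, 15, 16, 17, 18, 19, 20, 21, 22, 23],
  [3, 0, 18, 2, 23, 5, 14, 19, 15, 4, 10, 16, 22, 21, 8, 9, 17, 7, 13, 12, 20, 1, 11, 6],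
  [2, 3, 13, 18, 6, 5, 8, 12, 9, 23, 10, 17, 11, 1, 15, 4, 7, 19, 21, 22, 20, 0, 16, 14],
  [18, 2, 21, 13, 14, 5, 15, 22, 4, 6, 10, 7, 16, 0, 9, 23, 19, 12, 1, 11, 20, 3, 17, 8],
  [13, 18, 1, 21, 8, 5, 9, 11, 23, 14, 10, 19, 17, 3, 4, 6, 12, 22, 0, 16, 20, 2, 7, 15],
  [21, 13, 0, 1, 15, 5, 4, 16, 6, 8, 10, 12, 7, 2, 23, 14, 22, 11, 3, 17, 20, 18, 19, 9],
  [1, 21, 3, 0, 9, 5, 23, 17, 14, 15, 10, 22, 19, 18, 6, 8, 11, 16, 2, 7, 20, 13, 12, 4]]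

/-- fixed points -/
def fixPts : List ℕ := [5, 10, 20]

/-- moved points -/
def movePts : List ℕ := [0, 1, 2, 3, 4, 6, 7, 8, 9, 11, 12, 13, 14, 15, 16, 17, 18, 19, 21, 22, 23]

/-- orbit representatives -/
def repPts : List ℕ := [5, 10, 20, 0, 4, 7]

/-- orbit number and exponent of each point -/
def posList : List (ℕ × ℕ) := [(3, 0), (3, 6), (3, 2), (3, 1), (4, 0), (0, 0), (4, 2), (5, 0), (4, 4), (4, 6), (1, 0), (5, 4), (5, 2), (3, 4), (4, 3), (4, 5), (5, 5), (5, 6), (3, 3), (5, 1), (2, 0), (3, 5), (5, 3), (4, 1)]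

/-- a basis of the fixed lattice -/
def baseL : List (List ℤ) := [
  [0, 0, 0, 0, 0, 0, 0, 0, 0, 0, 0, 0, 0, 0, 0, 0, 0, 0, 0, 0, 8, 0, 0, 0],
  [0, 0, 0, 0, 2, 10, 2, 14, 2, 2, -2, 14, 14, 0, 2, 2, 14, 14, 0, 14, 40, 0, 14, 2],
  [0, 0, 0, 0, 2, 12, 2, 24, 2, 2, -14, 24, 24, 0, 2, 2, 24, 24, 0, 24, 68, 0, 24, 2],
  [1, 1, 1, 1, 3, 5, 3, 17, 3, 3, -17, 17, 17, 1, 3, 3, 17, 17, 1, 17, 53, 1, 17, 3],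
  [0, 0, 0, 0, 2, 12, 2, 28, 2, 2, -22, 28, 28, 0, 2, 2, 28, 28, 0, 28, 96, 0, 28, 2],
  [1, 1, 1, 1, 5, 15, 5, 35, 5, 5, -23, 35, 35, 1, 5, 5, 35, 35, 1, 35, 133, 1, 35, 5]]

/-- vectors dual to the basis modulo 2 -/
def dualL : List (List ℤ) := [
  [5, 1, 1, 1, 1, 5, 1, 1, 1, 1, 1, 1, 1, 1, 1, 1, 1, 1, 1, 1, 1, 1, 1, 21],
  [6, 4, 4, 6, 6, 10, 4, 6, 2, 6, 4, 4, 4, 4, 4, 4, 4, 4, 2, 6, 2, 4, 2, 42],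
  [0, 2, 2, 2, 2, 2, 0, 2, 0, 2, 2, 0, 0, 2, 2, 0, 0, 2, 0, 2, 0, 0, 0, 8],
  [12, 6, 6, 8, 8, 16, 6, 8, 4, 8, 6, 6, 6, 6, 6, 6, 6, 6, 4, 8, 4, 6, 4, 68],
  [10, 4, 4, 4, 4, 8, 2, 4, 2, 4, 4, 2, 2, 4, 4, 2, 2, 4, 2, 4, 2, 2, 2, 46],
  [12, 6, 6, 8, 8, 16, 6, 8, 4, 8, 6, 6, 6, 6, 6, 6, 6, 6, 4, 8, 4, 6, 4, 76]]

/-- coefficients of the orbit sums of the generators -/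
def normCoef : List (List ℤ) := [
  [-97, 10, -42, -14, 22, 14],
  [287, -14, 112, 56, -70, -42],
  [192, -12, 77, 35, -46, -28],
  [73, -3, 27, 15, -17, -11],
  [73, -3, 27, 15, -17, -11],
  [73, -3, 27, 15, -17, -11],
  [73, -3, 27, 15, -17, -11],
  [-97, 10, -42, -14, 22, 14],
  [67, 19, 0, 21, 4, -21],
  [-97, 10, -42, -14, 22, 14],
  [-55, 3, -20, -9, 10, 9],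
  [-97, 10, -42, -14, 22, 14],
  [-97, 10, -42, -14, 22, 14],
  [-59, -2, -14, -14, 4, 14],
  [-55, 3, -20, -9, 10, 9],
  [-55, 3, -20, -9, 10, 9],
  [73, -3, 27, 15, -17, -11],
  [-97, 10, -42, -14, 22, 14],
  [-97, 10, -42, -14, 22, 14],
  [-55, 3, -20, -9, 10, 9],
  [-55, 3, -20, -9, 10, 9],
  [73, -3, 27, 15, -17, -11],
  [-55, 3, -20, -9, 10, 9],
  [-45, 5, -21, -7, 11, 7],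
  [73, -3, 27, 15, -17, -11],
  [-55, 3, -20, -9, 10, 9],
  [261, -16, 103, 50, -63, -38],
  [213, -8, 80, 41, -48, -33],
  [112, 3, 34, 25, -22, -19],
  [66, 4, 19, 17, -12, -13],
  [26, 2, 9, 6, -7, -4],
  [194, -2, 66, 41, -39, -33],
  [-18, -3, 1, -3, -6, 7],
  [93, -12, 46, 15, -31, -9],
  [93, -12, 46, 15, -31, -9],
  [152, -16, 70, 26, -45, -18],
  [255, -15, 102, 46, -60, -38],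
  [74, -6, 32, 15, -22, -9],
  [305, -11, 111, 59, -64, -49],
  [133, -10, 56, 26, -36, -18],
  [74, -6, 32, 15, -22, -9],
  [213, -8, 80, 41, -48, -33],
  [177, -5, 64, 35, -37, -29],
  [263, -25, 115, 44, -70, -34],
  [244, -19, 101, 44, -61, -34],
  [135, 2, 42, 30, -25, -24],
  [282, -10, 103, 54, -61, -44],
  [152, -16, 70, 26, -45, -18],
  [236, -9, 88, 46, -51, -38]]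

/-- short vectors in the fixed classes -/
def witL : List (List ℤ) := [
  [0, 0, 0, 0, 0, 0, 0, 0, 0, 0, 0, 0, 0, 0, 0, 0, 0, 0, 0, 0, 0, 0, 0, 0],
  [-8, 0, 0, 0, 0, 0, 0, 0, 0, 0, 0, 0, 0, 0, 0, 0, 0, 0, 0, 0, 0, 0, 0, 0],
  [-2, -2, -2, -2, 0, -4, 0, 0, 0, 0, -4, 0, 0, -2, 0, 0, 0, 0, -2, 0, -2, -2, 0, 0],
  [-2, -2, -2, -2, 0, -4, 0, 0, 0, 0, 4, 0, 0, -2, 0, 0, 0, 0, -2, 0, -2, -2, 0, 0],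
  [-4, 0, 0, 0, -2, 0, 2, 0, 2, -2, 2, 0, 0, 0, -2, 2, -4, 0, 0, 0, 0, 0, 0, -2],
  [-4, 0, 0, 0, -2, 0, 2, 0, 2, -2, 2, 0, 0, 0, -2, 2, 4, 0, 0, 0, 0, 0, 0, -2],
  [-4, 0, 0, 0, 0, -2, 0, 2, 0, -4, 0, -2, 2, 0, 0, 0, 2, 2, 0, -2, 0, 0, -2, 0],
  [-4, 0, 0, 0, 0, -2, 0, 2, 0, 4, 0, -2, 2, 0, 0, 0, 2, 2, 0, -2, 0, 0, -2, 0],
  [-3, -3, 1, 1, 3, 1, -1, 1, -1, -1, -1, 1, 1, -3, -1, -1, 1, -3, 1, 1, 1, 1, 1, -1],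
  [1, 1, 1, 1, 3, 5, 3, 17, 3, 3, -17, 17, 17, 1, 3, 3, 17, 17, 1, 17, 61, 1, 17, 3],
  [1, 1, 1, 1, 5, 15, 5, 31, 5, 5, -19, 31, 31, 1, 5, 5, 31, 31, 1, 31, 93, 1, 31, 5],
  [-1, -1, -1, -1, -1, 1, -1, 1, -1, -1, -1, 1, 1, -1, -1, -1, 1, 1, -1, 1, 3, -1, 1, -1],
  [1, 1, 1, 1, 1, 1, 1, 1, 1, 1, -3, 1, 1, 1, 1, 1, 1, 1, 1, 1, 1, 1, 1, 1],
  [1, 1, 1, 1, 5, 17, 5, 41, 5, 5, -31, 41, 41, 1, 5, 5, 41, 41, 1, 41, 129, 1, 41, 5],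
  [1, 1, 1, 1, 7, 27, 7, 55, 7, 7, -33, 55, 55, 1, 7, 7, 55, 55, 1, 55, 161, 1, 55, 7],
  [-1, -1, -1, -1, 1, -3, 1, 1, 1, 1, 1, 1, 1, -1, 1, 1, 1, 1, -1, 1, -1, -1, 1, 1],
  [-2, -2, -2, -2, 0, -2, 0, -2, 0, 0, 0, -2, -2, -2, 0, 0, -2, -2, -2, -2, -2, -2, -2, 0],
  [0, 0, 0, 0, 2, 0, 2, 0, 2, 2, 2, 0, 0, 0, 2, 2, 0, 0, 0, 0, 0, 0, 0, 2],
  [0, 0, 0, 0, 4, 22, 4, 42, 4, 4, -24, 42, 42, 0, 4, 4, 42, 42, 0, 42, 136, 0, 42, 4],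
  [0, 0, 0, 0, 4, 22, 4, 42, 4, 4, -24, 42, 42, 0, 4, 4, 42, 42, 0, 42, 144, 0, 42, 4],
  [0, 0, 0, 0, 0, 4, 0, 0, 0, 0, 0, 0, 0, 0, 0, 0, 0, 0, 0, 0, -4, 0, 0, 0],
  [0, 0, 0, 0, 0, 4, 0, 0, 0, 0, 0, 0, 0, 0, 0, 0, 0, 0, 0, 0, 4, 0, 0, 0],
  [0, 0, 0, 0, 6, 34, 6, 66, 6, 6, -38, 66, 66, 0, 6, 6, 66, 66, 0, 66, 204, 0, 66, 6],
  [0, 0, 0, 0, 6, 34, 6, 66, 6, 6, -38, 66, 66, 0, 6, 6, 66, 66, 0, 66, 212, 0, 66, 6],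
  [-3, -3, 1, 1, -3, 1, 1, 1, 1, 1, 1, 1, 1, -3, 1, 1, 1, -3, 1, 1, 1, 1, 1, 1],
  [1, 1, 1, 1, 5, 17, 5, 45, 5, 5, -39, 45, 45, 1, 5, 5, 45, 45, 1, 45, 157, 1, 45, 5],
  [-1, -1, -1, -1, 1, 1, 1, 1, 1, 1, 1, 1, 1, -1, 1, 1, 1, 1, -1, 1, 3, -1, 1, 1],
  [1, 1, 1, 1, 7, 27, 7, 59, 7, 7, -41, 59, 59, 1, 7, 7, 59, 59, 1, 59, 197, 1, 59, 7],
  [1, 1, 1, 1, -1, 1, -1, 1, -1, -1, 3, 1, 1, 1, -1, -1, 1, 1, 1, 1, 1, 1, 1, -1],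
  [1, 1, 1, 1, 7, 29, 7, 69, 7, 7, -53, 69, 69, 1, 7, 7, 69, 69, 1, 69, 225, 1, 69, 7],
  [-1, -1, -1, -1, -1, -3, -1, 1, -1, -1, -1, 1, 1, -1, -1, -1, 1, 1, -1, 1, -1, -1, 1, -1],
  [1, 1, 1, 1, 9, 39, 9, 83, 9, 9, -55, 83, 83, 1, 9, 9, 83, 83, 1, 83, 265, 1, 83, 9],
  [-3, -3, 1, 1, -3, -1, 1, -1, 1, 1, 1, -1, -1, -3, 1, 1, -1, 3, 1, -1, 1, 1, -1, 1],
  [1, 1, 1, 1, 5, 15, 5, 35, 5, 5, -23, 35, 35, 1, 5, 5, 35, 35, 1, 35, 141, 1, 35, 5],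
  [1, 1, 1, 1, 7, 25, 7, 49, 7, 7, -25, 49, 49, 1, 7, 7, 49, 49, 1, 49, 173, 1, 49, 7],
  [1, 1, 1, 1, -1, 1, -1, 1, -1, -1, -1, 1, 1, 1, -1, -1, 1, 1, 1, 1, -3, 1, 1, -1],
  [1, 1, 1, 1, 7, 27, 7, 59, 7, 7, -37, 59, 59, 1, 7, 7, 59, 59, 1, 59, 201, 1, 59, 7],
  [-1, -1, -1, -1, 1, 1, 1, 1, 1, 1, -3, 1, 1, -1, 1, 1, 1, 1, -1, 1, -1, -1, 1, 1],
  [1, 1, 1, 1, 1, -3, 1, 1, 1, 1, 1, 1, 1, 1, 1, 1, 1, 1, 1, 1, 1, 1, 1, 1],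
  [1, 1, 1, 1, 9, 37, 9, 73, 9, 9, -39, 73, 73, 1, 9, 9, 73, 73, 1, 73, 249, 1, 73, 9],
  [-6, 2, 2, 2, 0, 0, 0, 0, 0, 0, 0, 0, 0, 2, 0, 0, 0, 0, 2, 0, 2, 2, 0, 0],
  [2, 2, 2, 2, 0, 0, 0, 0, 0, 0, 0, 0, 0, 2, 0, 0, 0, 0, 2, 0, 2, 2, 0, 0],
  [0, 0, 0, 0, 0, 4, 0, 0, 0, 0, -4, 0, 0, 0, 0, 0, 0, 0, 0, 0, 0, 0, 0, 0],
  [0, 0, 0, 0, 0, 4, 0, 0, 0, 0, 4, 0, 0, 0, 0, 0, 0, 0, 0, 0, 0, 0, 0, 0],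
  [2, 2, 2, 2, 10, 32, 10, 76, 10, 10, -54, 76, 76, 2, 10, 10, 76, 76, 2, 76, 254, 2, 76, 10],
  [2, 2, 2, 2, 10, 32, 10, 76, 10, 10, -54, 76, 76, 2, 10, 10, 76, 76, 2, 76, 262, 2, 76, 10],
  [2, 2, 2, 2, 12, 42, 12, 90, 12, 12, -56, 90, 90, 2, 12, 12, 90, 90, 2, 90, 294, 2, 90, 12],
  [2, 2, 2, 2, 12, 42, 12, 90, 12, 12, -56, 90, 90, 2, 12, 12, 90, 90, 2, 90, 302, 2, 90, 12],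
  [-3, -3, 1, 1, 3, -1, -1, -1, -1, -1, -1, -1, -1, -3, -1, -1, -1, 3, 1, -1, 1, 1, -1, -1],
  [1, 1, 1, 1, 7, 27, 7, 63, 7, 7, -45, 63, 63, 1, 7, 7, 63, 63, 1, 63, 237, 1, 63, 7],
  [1, 1, 1, 1, 1, 1, 1, 1, 1, 1, 1, 1, 1, 1, 1, 1, 1, 1, 1, 1, -3, 1, 1, 1],
  [1, 1, 1, 1, 9, 37, 9, 77, 9, 9, -47, 77, 77, 1, 9, 9, 77, 77, 1, 77, 277, 1, 77, 9],
  [1, 1, 1, 1, 9, 39, 9, 87, 9, 9, -59, 87, 87, 1, 9, 9, 87, 87, 1, 87, 297, 1, 87, 9],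
  [-1, -1, -1, -1, -1, 1, -1, 1, -1, -1, 3, 1, 1, -1, -1, -1, 1, 1, -1, 1, -1, -1, 1, -1],
  [1, 1, 1, 1, 11, 49, 11, 101, 11, 11, -61, 101, 101, 1, 11, 11, 101, 101, 1, 101, 337, 1, 101, 11],
  [1, 1, 1, 1, -1, -3, -1, 1, -1, -1, -1, 1, 1, 1, -1, -1, 1, 1, 1, 1, 1, 1, 1, -1],
  [-2, -2, -2, -2, -2, 0, -2, 0, -2, -2, -2, 0, 0, -2, -2, -2, 0, 0, -2, 0, -2, -2, 0, -2],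
  [0, 0, 0, 0, 0, 2, 0, 2, 0, 0, 0, 2, 2, 0, 0, 0, 2, 2, 0, 2, 0, 0, 2, 0],
  [2, 2, 2, 2, 12, 42, 12, 94, 12, 12, -64, 94, 94, 2, 12, 12, 94, 94, 2, 94, 322, 2, 94, 12],
  [2, 2, 2, 2, 12, 42, 12, 94, 12, 12, -64, 94, 94, 2, 12, 12, 94, 94, 2, 94, 330, 2, 94, 12],
  [2, 2, 2, 2, 12, 44, 12, 104, 12, 12, -76, 104, 104, 2, 12, 12, 104, 104, 2, 104, 350, 2, 104, 12],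
  [2, 2, 2, 2, 12, 44, 12, 104, 12, 12, -76, 104, 104, 2, 12, 12, 104, 104, 2, 104, 358, 2, 104, 12],
  [0, 0, 0, 0, 0, 0, 0, 0, 0, 0, 4, 0, 0, 0, 0, 0, 0, 0, 0, 0, -4, 0, 0, 0],
  [0, 0, 0, 0, 0, 0, 0, 0, 0, 0, 4, 0, 0, 0, 0, 0, 0, 0, 0, 0, 4, 0, 0, 0]]

/-- fixed code words -/
def fixMasks : List ℕ := [0, 3416079, 4921504, 8337583, 8439632, 11855711, 13361136, 16777215]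

/-- the centralizer in the permutation group -/
def centTabs : List (List ℕ) := [
  [0, 1, 2, 3, 4, 5, 6, 7, 8, 9, 10, 11, 12, 13, 14, 15, 16, 17, 18, 19, 20, 21, 22, 23],
  [3, 0, 18, 2, 23, 5, 14, 19, 15, 4, 10, 16, 22, 21, 8, 9, 17, 7, 13, 12, 20, 1, 11, 6],
  [2, 3, 13, 18, 6, 5, 8, 12, 9, 23, 10, 17, 11, 1, 15, 4, 7, 19, 21, 22, 20, 0, 16, 14],
  [18, 2, 21, 13, 14, 5, 15, 22, 4, 6, 10, 7, 16, 0, 9, 23, 19, 12, 1, 11, 20, 3, 17, 8],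
  [13, 18, 1, 21, 8, 5, 9, 11, 23, 14, 10, 19, 17, 3, 4, 6, 12, 22, 0, 16, 20, 2, 7, 15],
  [21, 13, 0, 1, 15, 5, 4, 16, 6, 8, 10, 12, 7, 2, 23, 14, 22, 11, 3, 17, 20, 18, 19, 9],
  [1, 21, 3, 0, 9, 5, 23, 17, 14, 15, 10, 22, 19, 18, 6, 8, 11, 16, 2, 7, 20, 13, 12, 4],
  [4, 9, 6, 23, 2, 5, 13, 19, 1, 3, 20, 16, 22, 8, 21, 0, 17, 7, 14, 12, 10, 15, 11, 18],
  [23, 4, 14, 6, 18, 5, 21, 12, 0, 2, 20, 17, 11, 15, 1, 3, 7, 19, 8, 22, 10, 9, 16, 13],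
  [6, 23, 8, 14, 13, 5, 1, 22, 3, 18, 20, 7, 16, 9, 0, 2, 19, 12, 15, 11, 10, 4, 17, 21],
  [14, 6, 15, 8, 21, 5, 0, 11, 2, 13, 20, 19, 17, 4, 3, 18, 12, 22, 9, 16, 10, 23, 7, 1],
  [8, 14, 9, 15, 1, 5, 3, 16, 18, 21, 20, 12, 7, 23, 2, 13, 22, 11, 4, 17, 10, 6, 19, 0],
  [15, 8, 4, 9, 0, 5, 2, 17, 13, 1, 20, 22, 19, 6, 18, 21, 11, 16, 23, 7, 10, 14, 12, 3],
  [9, 15, 23, 4, 3, 5, 18, 7, 21, 0, 20, 11, 12, 14, 13, 1, 16, 17, 6, 19, 10, 8, 22, 2],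
  [0, 1, 2, 3, 17, 10, 19, 23, 22, 16, 5, 15, 14, 13, 12, 11, 9, 4, 18, 6, 20, 21, 8, 7],
  [3, 0, 18, 2, 7, 10, 12, 6, 11, 17, 5, 9, 8, 21, 22, 16, 4, 23, 13, 14, 20, 1, 15, 19],
  [2, 3, 13, 18, 19, 10, 22, 14, 16, 7, 5, 4, 15, 1, 11, 17, 23, 6, 21, 8, 20, 0, 9, 12],
  [18, 2, 21, 13, 12, 10, 11, 8, 17, 19, 5, 23, 9, 0, 16, 7, 6, 14, 1, 15, 20, 3, 4, 22],
  [13, 18, 1, 21, 22, 10, 16, 15, 7, 12, 5, 6, 4, 3, 17, 19, 14, 8, 0, 9, 20, 2, 23, 11],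
  [21, 13, 0, 1, 11, 10, 17, 9, 19, 22, 5, 14, 23, 2, 7, 12, 8, 15, 3, 4, 20, 18, 6, 16],
  [1, 21, 3, 0, 16, 10, 7, 4, 12, 11, 5, 8, 6, 18, 19, 22, 15, 9, 2, 23, 20, 13, 14, 17],
  [7, 17, 12, 19, 18, 10, 21, 14, 0, 2, 20, 4, 15, 11, 1, 3, 23, 6, 22, 8, 5, 16, 9, 13],
  [19, 7, 22, 12, 13, 10, 1, 8, 3, 18, 20, 23, 9, 16, 0, 2, 6, 14, 11, 15, 5, 17, 4, 21],
  [12, 19, 11, 22, 21, 10, 0, 15, 2, 13, 20, 6, 4, 17, 3, 18, 14, 8, 16, 9, 5, 7, 23, 1],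
  [22, 12, 16, 11, 1, 10, 3, 9, 18, 21, 20, 14, 23, 7, 2, 13, 8, 15, 17, 4, 5, 19, 6, 0],
  [11, 22, 17, 16, 0, 10, 2, 4, 13, 1, 20, 8, 6, 19, 18, 21, 15, 9, 7, 23, 5, 12, 14, 3],
  [16, 11, 7, 17, 3, 10, 18, 23, 21, 0, 20, 15, 14, 12, 13, 1, 9, 4, 19, 6, 5, 22, 8, 2],
  [17, 16, 19, 7, 2, 10, 13, 6, 1, 3, 20, 9, 8, 22, 21, 0, 4, 23, 12, 14, 5, 11, 15, 18],
  [4, 9, 6, 23, 7, 20, 12, 18, 11, 17, 5, 0, 21, 8, 22, 16, 3, 2, 14, 13, 10, 15, 1, 19],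
  [23, 4, 14, 6, 19, 20, 22, 13, 16, 7, 5, 3, 1, 15, 11, 17, 2, 18, 8, 21, 10, 9, 0, 12],
  [6, 23, 8, 14, 12, 20, 11, 21, 17, 19, 5, 2, 0, 9, 16, 7, 18, 13, 15, 1, 10, 4, 3, 22],
  [14, 6, 15, 8, 22, 20, 16, 1, 7, 12, 5, 18, 3, 4, 17, 19, 13, 21, 9, 0, 10, 23, 2, 11],
  [8, 14, 9, 15, 11, 20, 17, 0, 19, 22, 5, 13, 2, 23, 7, 12, 21, 1, 4, 3, 10, 6, 18, 16],
  [15, 8, 4, 9, 16, 20, 7, 3, 12, 11, 5, 21, 18, 6, 19, 22, 1, 0, 23, 2, 10, 14, 13, 17],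
  [9, 15, 23, 4, 17, 20, 19, 2, 22, 16, 5, 1, 13, 14, 12, 11, 0, 3, 6, 18, 10, 8, 21, 7],
  [7, 17, 12, 19, 6, 20, 8, 13, 9, 23, 10, 3, 1, 11, 15, 4, 2, 18, 22, 21, 5, 16, 0, 14],
  [19, 7, 22, 12, 14, 20, 15, 21, 4, 6, 10, 2, 0, 16, 9, 23, 18, 13, 11, 1, 5, 17, 3, 8],
  [12, 19, 11, 22, 8, 20, 9, 1, 23, 14, 10, 18, 3, 17, 4, 6, 13, 21, 16, 0, 5, 7, 2, 15],
  [22, 12, 16, 11, 15, 20, 4, 0, 6, 8, 10, 13, 2, 7, 23, 14, 21, 1, 17, 3, 5, 19, 18, 9],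
  [11, 22, 17, 16, 9, 20, 23, 3, 14, 15, 10, 21, 18, 19, 6, 8, 1, 0, 7, 2, 5, 12, 13, 4],
  [16, 11, 7, 17, 4, 20, 6, 2, 8, 9, 10, 1, 13, 12, 14, 15, 0, 3, 19, 18, 5, 22, 21, 23],
  [17, 16, 19, 7, 23, 20, 14, 18, 15, 4, 10, 0, 21, 22, 8, 9, 3, 2, 12, 13, 5, 11, 1, 6]]

/-- rows of a centralizing element moving the base frame -/
def gRows : List (List ℤ) := [
  [0, 0, 0, 0, -2, -2, 2, 2, 2, -2, -2, -2, -2, 0, -2, -2, -2, -2, 0, 2, 0, 0, 2, 2],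
  [0, 0, 0, 0, 2, -2, -2, 2, -2, -2, -2, -2, 2, 0, 2, -2, -2, 2, 0, -2, 0, 0, -2, 2],
  [0, 0, 0, 0, -2, -2, -2, -2, 2, 2, -2, -2, 2, 0, 2, -2, 2, -2, 0, -2, 0, 0, 2, -2],
  [0, 0, 0, 0, -2, -2, 2, -2, -2, -2, -2, 2, 2, 0, 2, 2, -2, -2, 0, 2, 0, 0, -2, -2],
  [-2, 2, 2, -2, 0, 0, 0, -4, 0, 0, 0, 0, 0, 2, 0, 0, 0, 0, 2, 0, -2, -2, 0, 4],
  [-2, -2, -2, -2, 0, -4, 0, 0, 0, 0, 4, 0, 0, -2, 0, 0, 0, 0, -2, 0, -2, -2, 0, 0],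
  [-2, 2, -2, 2, 0, 0, 0, 0, 0, 0, 0, 0, -4, 2, 4, 0, 0, 0, -2, 0, -2, 2, 0, 0],
  [-2, 2, 2, 2, 0, 0, 4, 0, 0, 0, 0, 0, 0, -2, 0, 0, 0, 0, -2, -4, 2, -2, 0, 0],
  [2, 2, -2, 2, 0, 0, 0, 0, 0, 0, 0, -4, 0, -2, 0, 4, 0, 0, 2, 0, -2, -2, 0, 0],
  [-2, -2, 2, 2, 4, 0, 0, 0, 0, 0, 0, 0, 0, -2, 0, 0, 0, -4, 2, 0, -2, 2, 0, 0],
  [2, 2, 2, 2, 0, -4, 0, 0, 0, 0, 4, 0, 0, 2, 0, 0, 0, 0, 2, 0, 2, 2, 0, 0],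
  [-2, 2, -2, -2, 0, 0, 0, 0, 0, 4, 0, 0, 0, -2, 0, 0, -4, 0, 2, 0, 2, 2, 0, 0],
  [-2, -2, -2, 2, 0, 0, 0, 0, 4, 0, 0, 0, 0, 2, 0, 0, 0, 0, 2, 0, 2, -2, -4, 0],
  [0, 0, 0, 0, -2, -2, -2, 2, -2, 2, -2, 2, -2, 0, -2, 2, 2, -2, 0, -2, 0, 0, -2, 2],
  [2, 2, 2, -2, 0, 0, 0, 0, 4, 0, 0, 0, 0, -2, 0, 0, 0, 0, -2, 0, -2, 2, -4, 0],
  [2, -2, 2, 2, 0, 0, 0, 0, 0, 4, 0, 0, 0, 2, 0, 0, -4, 0, -2, 0, -2, -2, 0, 0],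
  [2, 2, -2, -2, 4, 0, 0, 0, 0, 0, 0, 0, 0, 2, 0, 0, 0, -4, -2, 0, 2, -2, 0, 0],
  [2, -2, -2, 2, 0, 0, 0, -4, 0, 0, 0, 0, 0, -2, 0, 0, 0, 0, -2, 0, 2, 2, 0, 4],
  [0, 0, 0, 0, 2, -2, -2, -2, 2, -2, -2, 2, -2, 0, -2, 2, -2, 2, 0, -2, 0, 0, 2, -2],
  [2, -2, 2, -2, 0, 0, 0, 0, 0, 0, 0, 0, -4, -2, 4, 0, 0, 0, 2, 0, 2, -2, 0, 0],
  [0, 0, 0, 0, 2, -2, 2, 2, 2, 2, -2, 2, 2, 0, 2, 2, 2, 2, 0, 2, 0, 0, 2, 2],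
  [0, 0, 0, 0, 2, -2, 2, -2, -2, 2, -2, -2, -2, 0, -2, -2, 2, 2, 0, 2, 0, 0, -2, -2],
  [-2, -2, 2, -2, 0, 0, 0, 0, 0, 0, 0, -4, 0, 2, 0, 4, 0, 0, -2, 0, 2, 2, 0, 0],
  [2, -2, -2, -2, 0, 0, 4, 0, 0, 0, 0, 0, 0, 2, 0, 0, 0, 0, 2, -4, -2, 2, 0, 0]]

/-- its transpose -/
def gCols : List (List ℤ) := [
  [0, 0, 0, 0, -2, -2, -2, -2, 2, -2, 2, -2, -2, 0, 2, 2, 2, 2, 0, 2, 0, 0, -2, 2],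
  [0, 0, 0, 0, 2, -2, 2, 2, 2, -2, 2, 2, -2, 0, 2, -2, 2, -2, 0, -2, 0, 0, -2, -2],
  [0, 0, 0, 0, 2, -2, -2, 2, -2, 2, 2, -2, -2, 0, 2, 2, -2, -2, 0, 2, 0, 0, 2, -2],
  [0, 0, 0, 0, -2, -2, 2, 2, 2, 2, 2, -2, 2, 0, -2, 2, -2, 2, 0, -2, 0, 0, -2, -2],
  [-2, 2, -2, -2, 0, 0, 0, 0, 0, 4, 0, 0, 0, -2, 0, 0, 4, 0, 2, 0, 2, 2, 0, 0],
  [-2, -2, -2, -2, 0, -4, 0, 0, 0, 0, -4, 0, 0, -2, 0, 0, 0, 0, -2, 0, -2, -2, 0, 0],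
  [2, -2, -2, 2, 0, 0, 0, 4, 0, 0, 0, 0, 0, -2, 0, 0, 0, 0, -2, 0, 2, 2, 0, 4],
  [2, 2, -2, -2, -4, 0, 0, 0, 0, 0, 0, 0, 0, 2, 0, 0, 0, -4, -2, 0, 2, -2, 0, 0],
  [2, -2, 2, -2, 0, 0, 0, 0, 0, 0, 0, 0, 4, -2, 4, 0, 0, 0, 2, 0, 2, -2, 0, 0],
  [-2, -2, 2, -2, 0, 0, 0, 0, 0, 0, 0, 4, 0, 2, 0, 4, 0, 0, -2, 0, 2, 2, 0, 0],
  [-2, -2, -2, -2, 0, 4, 0, 0, 0, 0, 4, 0, 0, -2, 0, 0, 0, 0, -2, 0, -2, -2, 0, 0],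
  [-2, -2, -2, 2, 0, 0, 0, 0, -4, 0, 0, 0, 0, 2, 0, 0, 0, 0, 2, 0, 2, -2, -4, 0],
  [-2, 2, 2, 2, 0, 0, -4, 0, 0, 0, 0, 0, 0, -2, 0, 0, 0, 0, -2, -4, 2, -2, 0, 0],
  [0, 0, 0, 0, 2, -2, 2, -2, -2, -2, 2, -2, 2, 0, -2, 2, 2, -2, 0, -2, 0, 0, 2, 2],
  [-2, 2, 2, 2, 0, 0, 4, 0, 0, 0, 0, 0, 0, -2, 0, 0, 0, 0, -2, 4, 2, -2, 0, 0],
  [-2, -2, -2, 2, 0, 0, 0, 0, 4, 0, 0, 0, 0, 2, 0, 0, 0, 0, 2, 0, 2, -2, 4, 0],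
  [-2, -2, 2, -2, 0, 0, 0, 0, 0, 0, 0, -4, 0, 2, 0, -4, 0, 0, -2, 0, 2, 2, 0, 0],
  [-2, 2, -2, -2, 0, 0, 0, 0, 0, -4, 0, 0, 0, -2, 0, 0, -4, 0, 2, 0, 2, 2, 0, 0],
  [0, 0, 0, 0, 2, -2, -2, -2, 2, 2, 2, 2, 2, 0, -2, -2, -2, -2, 0, 2, 0, 0, -2, 2],
  [2, -2, -2, 2, 0, 0, 0, -4, 0, 0, 0, 0, 0, -2, 0, 0, 0, 0, -2, 0, 2, 2, 0, -4],
  [0, 0, 0, 0, -2, -2, -2, 2, -2, -2, 2, 2, 2, 0, -2, -2, 2, 2, 0, 2, 0, 0, 2, -2],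
  [0, 0, 0, 0, -2, -2, 2, -2, -2, 2, 2, 2, -2, 0, 2, -2, -2, 2, 0, -2, 0, 0, 2, 2],
  [2, -2, 2, -2, 0, 0, 0, 0, 0, 0, 0, 0, -4, -2, -4, 0, 0, 0, 2, 0, 2, -2, 0, 0],
  [2, 2, -2, -2, 4, 0, 0, 0, 0, 0, 0, 0, 0, 2, 0, 0, 0, 4, -2, 0, 2, -2, 0, 0]]

/-- rows of an inverting element -/
def iRows0 : List (List ℤ) := [
  [3, -1, -1, -1, -1, -1, 3, -1, 3, -1, -1, -1, -1, -1, -1, 3, 3, -1, -1, -1, -1, -1, -1, -1],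
  [-1, -1, -1, 3, -1, -1, -1, -1, -1, 3, -1, -1, -1, -1, 3, 3, -1, 3, -1, -1, -1, -1, -1, -1],
  [-1, -1, -1, -1, 3, -1, 3, -1, -1, -1, -1, -1, -1, -1, 3, -1, -1, -1, -1, -1, -1, 3, 3, -1],
  [-1, 3, -1, -1, -1, -1, -1, -1, 3, -1, -1, 3, -1, -1, 3, -1, -1, -1, -1, -1, -1, -1, -1, 3],
  [1, 1, -3, 1, 1, 1, 1, 1, 1, 1, 1, -3, 1, -3, 1, -3, 1, 1, 1, 1, 1, -3, 1, 1],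
  [-1, -1, -1, -1, -1, -5, -1, -1, -1, -1, 3, -1, -1, -1, -1, -1, -1, -1, -1, -1, 3, -1, -1, -1],
  [-3, 1, -3, 1, 1, 1, 1, 1, 1, 1, 1, 1, -3, 1, -3, 1, 1, 1, -3, 1, 1, 1, 1, 1],
  [-1, -1, -1, -1, -1, -1, -1, -1, 3, -1, -1, -1, 3, -1, -1, -1, -1, 3, -1, 3, -1, 3, -1, -1],
  [-3, 1, 1, -3, 1, 1, 1, -3, 1, 1, 1, 1, 1, 1, 1, 1, 1, 1, 1, 1, 1, -3, 1, -3],
  [1, -3, 1, 1, 1, 1, 1, 1, 1, -3, 1, 1, 1, 1, 1, 1, -3, 1, -3, 1, 1, -3, 1, 1],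
  [1, 1, 1, 1, 1, -3, 1, 1, 1, 1, -3, 1, 1, 1, 1, 1, 1, 1, 1, 1, 5, 1, 1, 1],
  [-1, -1, -1, 3, 3, -1, -1, -1, -1, -1, -1, 3, 3, -1, -1, -1, 3, -1, -1, -1, -1, -1, -1, -1],
  [-1, -1, -1, -1, -1, -1, 3, 3, -1, -1, -1, 3, -1, -1, -1, -1, -1, 3, 3, -1, -1, -1, -1, -1],
  [-1, -1, -1, -1, 3, -1, -1, -1, -1, -1, -1, -1, -1, -1, -1, 3, -1, -1, 3, 3, -1, -1, -1, 3],
  [1, -3, -3, -3, 1, 1, -3, 1, 1, 1, 1, 1, 1, 1, 1, 1, 1, 1, 1, -3, 1, 1, 1, 1],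
  [-3, -3, 1, 1, -3, 1, 1, 1, 1, 1, 1, 1, 1, -3, 1, 1, 1, -3, 1, 1, 1, 1, 1, 1],
  [3, -1, -1, -1, -1, -1, -1, -1, -1, 3, -1, 3, -1, -1, -1, -1, -1, -1, -1, 3, -1, -1, 3, -1],
  [-1, 3, -1, -1, -1, -1, -1, 3, -1, -1, -1, -1, 3, -1, -1, 3, -1, -1, -1, -1, -1, -1, 3, -1],
  [-1, -1, -1, -1, -1, -1, 3, -1, -1, 3, -1, -1, 3, 3, -1, -1, -1, -1, -1, -1, -1, -1, -1, 3],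
  [-1, -1, -1, -1, -1, -1, -1, 3, -1, -1, -1, -1, -1, 3, 3, -1, 3, -1, -1, 3, -1, -1, -1, -1],
  [-1, -1, -1, -1, -1, 3, -1, -1, -1, -1, -5, -1, -1, -1, -1, -1, -1, -1, -1, -1, 3, -1, -1, -1],
  [-1, -1, 3, -1, 3, -1, -1, 3, 3, 3, -1, -1, -1, -1, -1, -1, -1, -1, -1, -1, -1, -1, -1, -1],
  [-1, -1, 3, -1, -1, -1, -1, -1, -1, -1, -1, -1, -1, -1, -1, -1, 3, 3, -1, -1, -1, -1, 3, 3],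
  [1, 1, 1, -3, 1, 1, 1, 1, -3, 1, 1, 1, 1, -3, 1, 1, 1, 1, -3, 1, 1, 1, -3, 1]]

/-- its transpose -/
def iCols0 : List (List ℤ) := [
  [3, -1, -1, -1, 1, -1, -3, -1, -3, 1, 1, -1, -1, -1, 1, -3, 3, -1, -1, -1, -1, -1, -1, 1],
  [-1, -1, -1, 3, 1, -1, 1, -1, 1, -3, 1, -1, -1, -1, -3, -3, -1, 3, -1, -1, -1, -1, -1, 1],
  [-1, -1, -1, -1, -3, -1, -3, -1, 1, 1, 1, -1, -1, -1, -3, 1, -1, -1, -1, -1, -1, 3, 3, 1],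
  [-1, 3, -1, -1, 1, -1, 1, -1, -3, 1, 1, 3, -1, -1, -3, 1, -1, -1, -1, -1, -1, -1, -1, -3],
  [-1, -1, 3, -1, 1, -1, 1, -1, 1, 1, 1, 3, -1, 3, 1, -3, -1, -1, -1, -1, -1, 3, -1, 1],
  [-1, -1, -1, -1, 1, -5, 1, -1, 1, 1, -3, -1, -1, -1, 1, 1, -1, -1, -1, -1, 3, -1, -1, 1],
  [3, -1, 3, -1, 1, -1, 1, -1, 1, 1, 1, -1, 3, -1, -3, 1, -1, -1, 3, -1, -1, -1, -1, 1],
  [-1, -1, -1, -1, 1, -1, 1, -1, -3, 1, 1, -1, 3, -1, 1, 1, -1, 3, -1, 3, -1, 3, -1, 1],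
  [3, -1, -1, 3, 1, -1, 1, 3, 1, 1, 1, -1, -1, -1, 1, 1, -1, -1, -1, -1, -1, 3, -1, -3],
  [-1, 3, -1, -1, 1, -1, 1, -1, 1, -3, 1, -1, -1, -1, 1, 1, 3, -1, 3, -1, -1, 3, -1, 1],
  [-1, -1, -1, -1, 1, 3, 1, -1, 1, 1, -3, -1, -1, -1, 1, 1, -1, -1, -1, -1, -5, -1, -1, 1],
  [-1, -1, -1, 3, -3, -1, 1, -1, 1, 1, 1, 3, 3, -1, 1, 1, 3, -1, -1, -1, -1, -1, -1, 1],
  [-1, -1, -1, -1, 1, -1, -3, 3, 1, 1, 1, 3, -1, -1, 1, 1, -1, 3, 3, -1, -1, -1, -1, 1],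
  [-1, -1, -1, -1, -3, -1, 1, -1, 1, 1, 1, -1, -1, -1, 1, -3, -1, -1, 3, 3, -1, -1, -1, -3],
  [-1, 3, 3, 3, 1, -1, -3, -1, 1, 1, 1, -1, -1, -1, 1, 1, -1, -1, -1, 3, -1, -1, -1, 1],
  [3, 3, -1, -1, -3, -1, 1, -1, 1, 1, 1, -1, -1, 3, 1, 1, -1, 3, -1, -1, -1, -1, -1, 1],
  [3, -1, -1, -1, 1, -1, 1, -1, 1, -3, 1, 3, -1, -1, 1, 1, -1, -1, -1, 3, -1, -1, 3, 1],
  [-1, 3, -1, -1, 1, -1, 1, 3, 1, 1, 1, -1, 3, -1, 1, -3, -1, -1, -1, -1, -1, -1, 3, 1],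
  [-1, -1, -1, -1, 1, -1, -3, -1, 1, -3, 1, -1, 3, 3, 1, 1, -1, -1, -1, -1, -1, -1, -1, -3],
  [-1, -1, -1, -1, 1, -1, 1, 3, 1, 1, 1, -1, -1, 3, -3, 1, 3, -1, -1, 3, -1, -1, -1, 1],
  [-1, -1, -1, -1, 1, 3, 1, -1, 1, 1, 5, -1, -1, -1, 1, 1, -1, -1, -1, -1, 3, -1, -1, 1],
  [-1, -1, 3, -1, -3, -1, 1, 3, -3, -3, 1, -1, -1, -1, 1, 1, -1, -1, -1, -1, -1, -1, -1, 1],
  [-1, -1, 3, -1, 1, -1, 1, -1, 1, 1, 1, -1, -1, -1, 1, 1, 3, 3, -1, -1, -1, -1, 3, -3],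
  [-1, -1, -1, 3, 1, -1, 1, -1, -3, 1, 1, -1, -1, 3, 1, 1, -1, -1, 3, -1, -1, -1, 3, 1]]

/-- rows of an inverting element -/
def iRows1 : List (List ℤ) := [
  [0, 0, 0, 0, 2, -2, -2, -2, -2, 2, -2, 2, 2, 0, 2, 2, 2, 2, 0, -2, 0, 0, -2, -2],
  [0, 0, 0, 0, 2, -2, -2, 2, 2, 2, -2, -2, -2, 0, -2, -2, 2, 2, 0, -2, 0, 0, 2, 2],
  [0, 0, 0, 0, -2, -2, -2, 2, 2, -2, -2, 2, 2, 0, 2, 2, -2, -2, 0, -2, 0, 0, 2, 2],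
  [0, 0, 0, 0, -2, -2, 2, -2, 2, 2, -2, 2, -2, 0, -2, 2, 2, -2, 0, 2, 0, 0, 2, -2],
  [6, -2, -2, -2, 0, 0, 0, 0, 0, 0, 0, 0, 0, -2, 0, 0, 0, 0, -2, 0, -2, -2, 0, 0],
  [0, 0, 0, 0, 2, -2, 2, -2, 2, 2, 2, -2, -2, 0, 2, 2, -2, -2, 0, -2, 0, 0, -2, 2],
  [-2, -2, -2, -2, 0, 0, 0, 0, 0, 0, 0, 0, 0, -2, 0, 0, 0, 0, -2, 0, -2, 6, 0, 0],
  [0, 0, 0, 0, 2, -2, 2, 2, -2, 2, 2, 2, 2, 0, -2, -2, -2, -2, 0, -2, 0, 0, 2, -2],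
  [-2, -2, -2, -2, 0, 0, 0, 0, 0, 0, 0, 0, 0, -2, 0, 0, 0, 0, 6, 0, -2, -2, 0, 0],
  [-2, -2, -2, 6, 0, 0, 0, 0, 0, 0, 0, 0, 0, -2, 0, 0, 0, 0, -2, 0, -2, -2, 0, 0],
  [-2, -2, -2, -2, 0, 0, 0, 0, 0, 0, 0, 0, 0, -2, 0, 0, 0, 0, -2, 0, 6, -2, 0, 0],
  [0, 0, 0, 0, -2, -2, 2, 2, -2, -2, 2, -2, -2, 0, 2, 2, 2, 2, 0, -2, 0, 0, 2, -2],
  [0, 0, 0, 0, 2, -2, -2, 2, 2, -2, 2, -2, 2, 0, -2, 2, 2, -2, 0, 2, 0, 0, -2, -2],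
  [0, 0, 0, 0, -2, -2, 2, 2, -2, 2, -2, -2, 2, 0, 2, -2, 2, -2, 0, 2, 0, 0, -2, 2],
  [-2, -2, -2, -2, 0, 0, 0, 0, 0, 0, 0, 0, 0, 6, 0, 0, 0, 0, -2, 0, -2, -2, 0, 0],
  [-2, -2, 6, -2, 0, 0, 0, 0, 0, 0, 0, 0, 0, -2, 0, 0, 0, 0, -2, 0, -2, -2, 0, 0],
  [0, 0, 0, 0, -2, -2, 2, -2, 2, -2, 2, 2, 2, 0, -2, -2, 2, 2, 0, -2, 0, 0, -2, 2],
  [0, 0, 0, 0, 2, -2, -2, -2, -2, -2, 2, 2, -2, 0, 2, -2, 2, -2, 0, 2, 0, 0, 2, 2],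
  [0, 0, 0, 0, 2, -2, 2, -2, 2, -2, -2, -2, 2, 0, 2, -2, -2, 2, 0, 2, 0, 0, 2, -2],
  [0, 0, 0, 0, -2, -2, -2, -2, -2, 2, 2, -2, 2, 0, -2, 2, -2, 2, 0, 2, 0, 0, 2, 2],
  [0, 0, 0, 0, -2, -2, -2, -2, -2, -2, -2, -2, -2, 0, -2, -2, -2, -2, 0, -2, 0, 0, -2, -2],
  [0, 0, 0, 0, 2, -2, 2, 2, -2, -2, -2, 2, -2, 0, -2, 2, -2, 2, 0, 2, 0, 0, -2, 2],
  [0, 0, 0, 0, -2, -2, -2, 2, 2, 2, 2, 2, -2, 0, 2, -2, -2, 2, 0, 2, 0, 0, -2, -2],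
  [-2, 6, -2, -2, 0, 0, 0, 0, 0, 0, 0, 0, 0, -2, 0, 0, 0, 0, -2, 0, -2, -2, 0, 0]]

/-- its transpose -/
def iCols1 : List (List ℤ) := [
  [0, 0, 0, 0, 6, 0, -2, 0, -2, -2, -2, 0, 0, 0, -2, -2, 0, 0, 0, 0, 0, 0, 0, -2],
  [0, 0, 0, 0, -2, 0, -2, 0, -2, -2, -2, 0, 0, 0, -2, -2, 0, 0, 0, 0, 0, 0, 0, 6],
  [0, 0, 0, 0, -2, 0, -2, 0, -2, -2, -2, 0, 0, 0, -2, 6, 0, 0, 0, 0, 0, 0, 0, -2],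
  [0, 0, 0, 0, -2, 0, -2, 0, -2, 6, -2, 0, 0, 0, -2, -2, 0, 0, 0, 0, 0, 0, 0, -2],
  [2, 2, -2, -2, 0, 2, 0, 2, 0, 0, 0, -2, 2, -2, 0, 0, -2, 2, 2, -2, -2, 2, -2, 0],
  [-2, -2, -2, -2, 0, -2, 0, -2, 0, 0, 0, -2, -2, -2, 0, 0, -2, -2, -2, -2, -2, -2, -2, 0],
  [-2, -2, -2, 2, 0, 2, 0, 2, 0, 0, 0, 2, -2, 2, 0, 0, 2, -2, 2, -2, -2, 2, -2, 0],
  [-2, 2, 2, -2, 0, -2, 0, 2, 0, 0, 0, 2, 2, 2, 0, 0, -2, -2, -2, -2, -2, 2, 2, 0],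
  [-2, 2, 2, 2, 0, 2, 0, -2, 0, 0, 0, -2, 2, -2, 0, 0, 2, -2, 2, -2, -2, -2, 2, 0],
  [2, 2, -2, 2, 0, 2, 0, 2, 0, 0, 0, -2, -2, 2, 0, 0, -2, -2, -2, 2, -2, -2, 2, 0],
  [-2, -2, -2, -2, 0, 2, 0, 2, 0, 0, 0, 2, 2, -2, 0, 0, 2, 2, -2, 2, -2, -2, 2, 0],
  [2, -2, 2, 2, 0, -2, 0, 2, 0, 0, 0, -2, -2, -2, 0, 0, 2, 2, -2, -2, -2, 2, 2, 0],
  [2, -2, 2, -2, 0, -2, 0, 2, 0, 0, 0, -2, 2, 2, 0, 0, 2, -2, 2, 2, -2, -2, -2, 0],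
  [0, 0, 0, 0, -2, 0, -2, 0, -2, -2, -2, 0, 0, 0, 6, -2, 0, 0, 0, 0, 0, 0, 0, -2],
  [2, -2, 2, -2, 0, 2, 0, -2, 0, 0, 0, 2, -2, 2, 0, 0, -2, 2, 2, -2, -2, -2, 2, 0],
  [2, -2, 2, 2, 0, 2, 0, -2, 0, 0, 0, 2, 2, -2, 0, 0, -2, -2, -2, 2, -2, 2, -2, 0],
  [2, 2, -2, 2, 0, -2, 0, -2, 0, 0, 0, 2, 2, 2, 0, 0, 2, 2, -2, -2, -2, -2, -2, 0],
  [2, 2, -2, -2, 0, -2, 0, -2, 0, 0, 0, 2, -2, -2, 0, 0, 2, -2, 2, 2, -2, 2, 2, 0],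
  [0, 0, 0, 0, -2, 0, -2, 0, 6, -2, -2, 0, 0, 0, -2, -2, 0, 0, 0, 0, 0, 0, 0, -2],
  [-2, -2, -2, 2, 0, -2, 0, -2, 0, 0, 0, -2, 2, 2, 0, 0, -2, 2, 2, 2, -2, 2, 2, 0],
  [0, 0, 0, 0, -2, 0, -2, 0, -2, -2, 6, 0, 0, 0, -2, -2, 0, 0, 0, 0, 0, 0, 0, -2],
  [0, 0, 0, 0, -2, 0, 6, 0, -2, -2, -2, 0, 0, 0, -2, -2, 0, 0, 0, 0, 0, 0, 0, -2],
  [-2, 2, 2, 2, 0, -2, 0, 2, 0, 0, 0, 2, -2, -2, 0, 0, -2, 2, 2, 2, -2, -2, -2, 0],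
  [-2, 2, 2, -2, 0, 2, 0, -2, 0, 0, 0, -2, -2, 2, 0, 0, 2, 2, -2, 2, -2, 2, -2, 0]]

/-- monomial factors reaching the classes of the first family -/
def aMon : List (ℕ × ℕ) := [(0, 0), (2, 0), (0, 7), (1, 7), (0, 21), (1, 21)]

/-- monomial factors reaching the classes of the second family -/
def bMon : List (ℕ × ℕ × ℕ) := [(0, 0, 0), (0, 0, 1), (1, 7, 0), (0, 14, 0), (0, 7, 1), (0, 7, 0), (0, 14, 1)]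

/-- monomial representatives of the stabiliser of the base class -/
def stabMon : List (ℕ × ℕ) := [(0, 0), (1, 0), (0, 14), (1, 14), (3, 0), (2, 0), (2, 14), (3, 14), (0, 7), (3, 7), (0, 28), (3, 28), (1, 7), (2, 7), (2, 28), (1, 28), (0, 21), (2, 21), (0, 35), (2, 35), (1, 21), (3, 21), (3, 35), (1, 35)]

end CfsgLib.Co0Seven
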